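import Mathlib
import Cfsg.Agent.H540.E8C.Centre
import Cfsg.Agent.H942.CB.Spec

/-!
# S5919: elements of order 13 and 5 of `E₈(3)`
-/

set_option autoImplicit false
set_option linter.style.longLine false
set_option maxRecDepth 100000

namespace Cfsg.Agent.H540.E8C

open Cfsg Cfsg.Lie Cfsg.Lie.ChevalleyDatum
open Cfsg.Agent.ChevalleyStructure Cfsg.Agent.ChevalleyStructure.CoxeterGeomTypes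
open Cfsg.Agent.H942.E8Tab Cfsg.Agent.H942.E8Alc Cfsg.Agent.H942.ValsChar Cfsg.Agent.H942.E8Val
open Cfsg.Agent.H942.CB
open Cfsg.Agent.H944.RootVals Cfsg.Agent.H944.Tab Cfsg.Agent.H944.Kac
open Cfsg.Agent.H657 IsLocalRing Module

/-- certificate, `N = 13` -/
def CEa : Cert := ⟨[6, 5, 4, 3, 1, 2, 0, 3, 2, 4, 3, 1, 5, 4, 3, 2, 0, 6, 5, 4, 3, 1,
  2, 3, 4, 5, 6, 7, 6, 5, 4, 3, 1, 2, 0, 3, 2, 4, 3, 1, 5, 4, 3, 2, 0, 6, 5, 4, 3, 1, 2, 3, 4, 5, 6, 7], [1, 1, 2,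
  2, 2, 2, 2, 26], [[0, 0, 0, 0, 0, 0, 0, 1], [0, 1, 0, 0, 0, 0, 0, 0], [0, -4, 1, 0, 0, 0, 0, 0], [0, -6, 0, 1, 0,
  0, 0, 0], [0, -5, 0, 0, 1, 0, 0, 0], [0, -4, 0, 0, 0, 1, 0, 0], [1, -2, 0, 0, 0, 0, 0, 0], [0, -13, 0, 0, 0, 0, 1,
  2]], [[0, 0, 0, 0, 0, 0, -2, 1], [2, 1, 4, 6, 5, 4, 13, 0], [0, 0, 1, 0, 0, 0, 0, 0], [0, 0, 0, 1, 0, 0, 0, 0],
  [0, 0, 0, 0, 1, 0, 0, 0], [0, 0, 0, 0, 0, 1, 0, 0], [1, 0, 0, 0, 0, 0, 0, 0], [0, 0, 0, 0, 0, 0, 1, 0]], [[0, 1,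
  2, 0, 3, 1, 2, 0, 3, 2, 4, 3, 1, 2, 0, 3, 2, 4, 3, 1, 5, 4, 3, 1, 2, 0, 3, 2, 4, 3, 1, 5, 4, 3, 2, 0]]⟩

theorem chkCEa : chk 13 [0, 0, 0, 0, 0, 0, 1, 2] CEa = true := by decide +kernel

theorem bndCEa : bnd 13 [0, 0, 0, 0, 0, 0, 1, 2] CEa = 18743628421389393110651003031810837312 := by decide +kernel

/-- certificate, `N = 13` -/
def CEb : Cert := ⟨[7, 6, 5, 4, 3, 1, 2, 0, 3, 2, 4, 3, 1, 5, 4, 3, 2, 0, 6, 5, 4, 3,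
  1, 2, 3, 4, 5, 6, 7, 6, 5, 4, 3, 1, 2, 0, 3, 2, 4, 3, 1, 5, 4, 3, 2, 0, 6, 5, 4, 3, 1, 2, 3, 4, 5, 6], [1, 1, 2,
  2, 2, 2, 2, 26], [[0, 0, 0, 0, 0, 0, 0, 1], [0, 1, 0, 0, 0, 0, 0, -3], [0, 12, 1, 0, 0, 0, 0, -40], [0, 18, 0, 1,
  0, 0, 0, -60], [0, 15, 0, 0, 1, 0, 0, -50], [0, 12, 0, 0, 0, 1, 0, -40], [1, 6, 0, 0, 0, 0, 0, -20], [0, 13, 0, 0,
  0, 0, 1, -44]], [[2, 3, 4, 6, 5, 4, 5, 1], [-6, 1, -12, -18, -15, -12, -13, 0], [0, 0, 1, 0, 0, 0, 0, 0], [0, 0,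
  0, 1, 0, 0, 0, 0], [0, 0, 0, 0, 1, 0, 0, 0], [0, 0, 0, 0, 0, 1, 0, 0], [1, 0, 0, 0, 0, 0, 0, 0], [0, 0, 0, 0, 0,
  0, 1, 0]], [[0, 1, 2, 0, 3, 1, 2, 0, 3, 2, 4, 3, 1, 2, 0, 3, 2, 4, 3, 1, 5, 4, 3, 1, 2, 0, 3, 2, 4, 3, 1, 5, 4, 3,
  2, 0]]⟩

theorem chkCEb : chk 13 [0, 0, 0, 0, 0, 0, 2, 3] CEb = true := by decide +kernel

theorem bndCEb : bnd 13 [0, 0, 0, 0, 0, 0, 2, 3] CEb = 18743628421389393110651003031810837312 := by decide +kernel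

/-- certificate, `N = 13` -/
def CAa : Cert := ⟨[5, 4, 3, 1, 2, 3, 4, 5, 6, 5, 4, 3, 1, 2, 0, 3, 2, 4, 3, 1, 5, 4,
  3, 2, 0, 7, 6, 5, 4, 3, 1, 2, 0, 3, 2, 4, 3, 1, 5, 4, 3, 2, 0, 6, 5, 4, 3, 1, 2, 3, 4, 5, 7, 6, 5, 4, 3, 1, 2, 0,
  3, 2, 4, 3, 1, 5, 4, 3, 2, 0], [1, 1, 1, 1, 2, 2, 26, 26], [[1, 0, 0, 0, 0, 0, 0, 0], [0, 1, 0, 0, 0, 0, 0, 0],
  [-1, 0, 1, 0, 0, 0, 0, 0], [-1, 0, 0, 1, 0, 0, 0, 0], [2, 0, 0, -2, 0, 0, 1, 0], [1, 0, 0, -1, 0, 0, 0, 1], [-10,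
  3, 9, 0, 1, 0, 0, 0], [2, 0, 0, 0, 0, 1, 0, -13]], [[1, 0, 1, 1, 1, -2, 0, 0], [0, 1, 0, 0, -3, 0, 0, 0], [0, 0,
  1, 0, -9, 0, 0, 0], [0, 0, 0, 1, 0, 13, 2, 1], [0, 0, 0, 0, 0, 0, 1, 0], [0, 0, 0, 0, 0, 13, 0, 1], [0, 0, 0, 0,
  1, 0, 0, 0], [0, 0, 0, 0, 0, 1, 0, 0]], [[1, 2, 3, 1, 2, 3, 4, 3, 1, 2, 3, 4, 6, 7, 6], [1, 2, 3, 1, 2, 3, 4, 3,
  1, 2, 3, 4, 7, 6], [1, 2, 3, 1, 2, 3, 4, 3, 1, 2, 3, 4, 6, 7], [1, 2, 3, 1, 2, 4, 3, 1, 2, 3, 4, 6, 7, 6], [1, 2,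
  3, 1, 2, 3, 4, 3, 1, 2, 3, 4, 7], [1, 2, 3, 1, 2, 3, 4, 3, 1, 2, 3, 4, 6], [1, 2, 3, 1, 2, 4, 3, 1, 2, 3, 4, 6,
  7], [1, 2, 3, 1, 2, 4, 3, 1, 2, 3, 4, 7, 6]]⟩

theorem chkCAa : chk 13 [2, 0, 0, 0, 0, 1, 0, 0] CAa = true := by decide +kernel

theorem bndCAa : bnd 13 [2, 0, 0, 0, 0, 1, 0, 0] CAa = 1360894629560719968 := by decide +kernel

/-- certificate, `N = 13` -/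
def CAb : Cert := ⟨[5, 4, 3, 1, 2, 0, 3, 2, 4, 3, 1, 5, 4, 3, 2, 0], [1, 1, 1, 1, 2, 2,
  26, 26], [[1, 0, 0, 0, 0, 0, 0, 0], [0, 1, 0, 0, 0, 0, 0, 0], [0, 3, 1, 0, 0, 0, 0, 0], [0, 0, 0, 1, 0, 0, 0, 0],
  [3, 0, 0, -13, 0, 1, 0, 0], [0, 0, 0, 0, 0, 0, 0, 1], [3, 0, 0, -13, 0, 1, 1, 0], [-6, 9, 3, 0, 1, -2, 5, 0]],
  [[1, 0, 0, 0, 0, -3, 0, 0], [0, 1, -3, 0, 0, 0, 0, 0], [0, 0, 1, 0, -3, 0, 0, 0], [0, 0, 0, 1, 26, 13, 0, 0], [0,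
  0, 0, 0, 7, 1, -1, 0], [0, 0, 0, 0, 0, 0, 0, 1], [0, 0, 0, 0, -5, 0, 1, 0], [0, 0, 0, 0, 1, 0, 0, 0]], [[1, 2, 3,
  1, 2, 3, 4, 3, 1, 2, 3, 4, 7, 6, 5, 4, 3, 1, 2, 0, 3, 2, 4, 3, 1, 5, 4, 3, 2, 0, 6, 5, 4, 3, 1, 2, 3, 4, 5, 6, 7,
  6, 5, 4, 3, 1, 2, 0, 3, 2, 4, 3, 1, 5, 4, 3, 2, 0, 6, 5, 4, 3, 1, 2, 3, 4, 5, 6, 7], [1, 2, 3, 1, 2, 3, 4, 3, 1,
  2, 3, 4, 7, 6, 5, 4, 3, 1, 2, 0, 3, 2, 4, 3, 1, 5, 4, 3, 2, 0, 6, 5, 4, 3, 1, 2, 3, 4, 5, 6, 7, 6, 5, 4, 3, 1, 2,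
  0, 3, 2, 4, 3, 1, 5, 4, 3, 2, 0, 6, 5, 4, 3, 1, 2, 3, 4, 5, 6], [1, 2, 3, 1, 2, 3, 4, 3, 1, 2, 3, 4, 6, 5, 4, 3,
  1, 2, 0, 3, 2, 4, 3, 1, 5, 4, 3, 2, 0, 6, 5, 4, 3, 1, 2, 3, 4, 5, 6, 7, 6, 5, 4, 3, 1, 2, 0, 3, 2, 4, 3, 1, 5, 4,
  3, 2, 0, 6, 5, 4, 3, 1, 2, 3, 4, 5, 6, 7], [1, 2, 3, 1, 2, 4, 3, 1, 2, 3, 4, 7, 6, 5, 4, 3, 1, 2, 0, 3, 2, 4, 3,
  1, 5, 4, 3, 2, 0, 6, 5, 4, 3, 1, 2, 3, 4, 5, 6, 7, 6, 5, 4, 3, 1, 2, 0, 3, 2, 4, 3, 1, 5, 4, 3, 2, 0, 6, 5, 4, 3,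
  1, 2, 3, 4, 5, 6, 7], [1, 2, 3, 1, 2, 3, 4, 3, 1, 2, 3, 4, 7], [1, 2, 3, 1, 2, 4, 3, 1, 2, 3, 4, 7, 6, 5, 4, 3, 1,
  2, 0, 3, 2, 4, 3, 1, 5, 4, 3, 2, 0, 6, 5, 4, 3, 1, 2, 3, 4, 5, 6, 7, 6, 5, 4, 3, 1, 2, 0, 3, 2, 4, 3, 1, 5, 4, 3,
  2, 0, 6, 5, 4, 3, 1, 2, 3, 4, 5, 6], [1, 2, 3, 1, 2, 4, 3, 1, 2, 3, 4, 6, 5, 4, 3, 1, 2, 0, 3, 2, 4, 3, 1, 5, 4,
  3, 2, 0, 6, 5, 4, 3, 1, 2, 3, 4, 5, 6, 7, 6, 5, 4, 3, 1, 2, 0, 3, 2, 4, 3, 1, 5, 4, 3, 2, 0, 6, 5, 4, 3, 1, 2, 3,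
  4, 5, 6, 7], [1, 2, 3, 1, 2, 3, 4, 3, 1, 2, 3, 4, 6, 5, 4, 3, 1, 2, 0, 3, 2, 4, 3, 1, 5, 4, 3, 2, 0, 6, 5, 4, 3,
  1, 2, 3, 4, 5, 6, 7, 6, 5, 4, 3, 1, 2, 0, 3, 2, 4, 3, 1, 5, 4, 3, 2, 0, 6, 5, 4, 3, 1, 2, 3, 4, 5, 6]]⟩

theorem chkCAb : chk 13 [3, 0, 0, 0, 0, 1, 1, 0] CAb = true := by decide +kernel

theorem bndCAb : bnd 13 [3, 0, 0, 0, 0, 1, 1, 0] CAb = 1360894629560719968 := by decide +kernel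

def wDa : List ℕ := [0, 2, 3, 1, 4, 3, 2, 0, 5, 4, 3, 1, 2, 0, 3, 2, 4, 3, 1, 5, 4, 3, 2, 0, 6, 5, 4, 3, 1, 2, 3, 4,
  5, 7, 6, 5, 4, 3, 1, 2, 0, 3, 2, 4, 3, 1, 5, 4, 3, 2, 0, 6, 5, 4, 3, 1, 2, 3, 4, 5, 6, 7, 6, 5, 4, 3, 1, 2, 3, 4,
  5, 6]

theorem chkCDa : chkC 13 13 [1, 0, 0, 0, 0, 1, 1, 1] [11, 0, 0, 0, 0, 6, 1, 0] wDa = true := by decide +kernel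

def wDb : List ℕ := [0, 2, 3, 4, 3, 2, 0, 5, 4, 3, 1, 2, 3, 4, 6, 5, 4, 3, 1, 2, 0, 3, 2, 4, 3, 1, 7, 6, 5, 4, 3, 1,
  2, 0, 3, 2, 4, 3, 1, 5, 4, 3, 2, 0, 6, 5, 4, 3, 1, 2, 3, 4, 5, 6, 7, 6, 5, 4, 3, 1, 2, 0, 3, 2, 4, 3, 1, 5, 4, 3,
  2, 6, 5, 4, 3, 1]

theorem chkCDb : chkC 13 13 [1, 1, 0, 0, 1, 0, 0, 1] [4, 11, 0, 0, 1, 0, 0, 0] wDb = true := by decide +kernel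

def wDc : List ℕ := [7, 6, 5, 4, 3, 1, 2, 0, 3, 2, 4, 3, 1, 5, 4, 3, 2, 0, 6, 5, 4, 3, 1, 2, 3, 4, 5, 7, 6, 5, 4, 3,
  1, 2, 0, 3, 2, 4, 3, 1, 5, 4, 3, 2, 0]

theorem chkCDc : chkC 5 2 [1, 0, 0, 0, 0, 0, 0, 1] [1, 0, 0, 0, 0, 0, 0, 0] wDc = true := by decide +kernel

/-- the alcove vectors of the elements of order dividing 13 -/
def L13 : List (List ℕ) := [[0, 0, 0, 0, 0, 0, 0, 0], [0, 0, 0, 0, 0, 0, 1, 2], [0, 0, 0, 0, 0, 0, 2, 3],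
  [1, 0, 0, 0, 0, 1, 1, 1], [1, 1, 0, 0, 1, 0, 0, 1], [2, 0, 0, 0, 0, 1, 0, 0], [3, 0, 0, 0, 0, 1, 1, 0]]

theorem check13 : allAlc th8 13 (fun Y => bif invB 13 3 R8 Y then decide (Y ∈ L13) else true) = true := by
  decide +kernel

end Cfsg.Agent.H540.E8C
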