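import Mathlib
import Cfsg.Agent.H540.E8C.Data

/-!
# S5919: elements of order 13 and 5 of `E₈(3)`: central partners and lower bounds for centralisers
-/

set_option autoImplicit false
set_option linter.unusedSectionVars false
set_option maxRecDepth 100000

namespace Cfsg.Agent.H540.E8C

open Cfsg Cfsg.Lie Cfsg.Lie.ChevalleyDatum
open Cfsg.Agent.ChevalleyStructure Cfsg.Agent.ChevalleyStructure.CoxeterGeomTypes
open Cfsg.Agent.H942.E8Tab Cfsg.Agent.H942.E8Alc Cfsg.Agent.H942.ValsChar Cfsg.Agent.H942.E8Val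
open Cfsg.Agent.H942.CB
open Cfsg.Agent.H944.RootVals Cfsg.Agent.H944.Tab Cfsg.Agent.H944.Kac
open Cfsg.Agent.H657 IsLocalRing Module

/-- the matrix of an element of `E₈(3)` -/
abbrev mt (x : ↥(chevE8.group (ZMod 3))) : Matrix chevE8.Idx chevE8.Idx (ZMod 3) :=
  ((x : GL chevE8.Idx (ZMod 3)) : Matrix chevE8.Idx chevE8.Idx (ZMod 3))

/-- a partner of `x`: an element commuting with `x`, outside `⟨x⟩`, of order dividing `n`, fixing all the fixed vectors
of `x` -/
def Partner (n : ℕ) (x : ↥(chevE8.group (ZMod 3))) : Prop :=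
  ∃ x' : ↥(chevE8.group (ZMod 3)), x' ^ n = 1 ∧ Commute x x' ∧ x' ∉ Subgroup.zpowers x ∧
    ∀ v : chevE8.Idx → ZMod 3, (mt x).mulVec v = v → (mt x').mulVec v = v

theorem exists_nat_pow {G : Type*} [Group G] {x y : G} {N : ℕ} (hN : N ≠ 0) (hx : x ^ N = 1)
    (h : y ∈ Subgroup.zpowers x) : ∃ m : ℕ, y = x ^ m := by
  have h1 : IsOfFinOrder x := isOfFinOrder_iff_pow_eq_one.2 ⟨N, Nat.pos_of_ne_zero hN, hx⟩
  rw [← h1.mem_powers_iff_mem_zpowers] at h
  obtain ⟨m, hm⟩ := h
  exact ⟨m, hm.symm⟩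

theorem partner_a {x : ↥(chevE8.group (ZMod 3))} (hx : x ^ 13 = 1)
    (hT : TorD e8T x 13 (vecL 13 [1, 0, 0, 0, 0, 1, 1, 1])) : Partner 13 x := by
  obtain ⟨x', h1, h2, h3, -, h5⟩ := centre (by norm_num) (by norm_num) (by norm_num) (by norm_num) chkCDa hx hT
  refine ⟨x', h1, h2, fun h => ?_, h3⟩
  obtain ⟨m, hm⟩ := exists_nat_pow (by norm_num) hx h
  have h6 := h5 rfl m hm 7
  have h7 := h5 rfl m hm 0
  simp at h6 h7
  omega

theorem partner_b {x : ↥(chevE8.group (ZMod 3))} (hx : x ^ 13 = 1)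
    (hT : TorD e8T x 13 (vecL 13 [1, 1, 0, 0, 1, 0, 0, 1])) : Partner 13 x := by
  obtain ⟨x', h1, h2, h3, -, h5⟩ := centre (by norm_num) (by norm_num) (by norm_num) (by norm_num) chkCDb hx hT
  refine ⟨x', h1, h2, fun h => ?_, h3⟩
  obtain ⟨m, hm⟩ := exists_nat_pow (by norm_num) hx h
  have h6 := h5 rfl m hm 7
  have h7 := h5 rfl m hm 0
  simp at h6 h7
  omega

variable {V : ValuationSubring ℂ} [CharP (ResidueField V) 3] {G : Type*} [Group G]
  {F : G →* ↥(chevE8.group (ZMod 3))}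

/-- **Elements of order 13 of `E₈(3)`.** `8 + 2 * cnt 13 1 0 Y` is the dimension of the fixed space. -/
theorem thirteen {g : G} {Y : List ℕ} {ξ : ℂ} (hg : g ^ 13 = 1) (hne : F g ≠ 1) (h : Spec V F g 13 Y ξ)
    (hT : TorD e8T (F g) 13 (vecL 13 Y)) :
    ((cnt 13 1 0 Y = 6 ∨ cnt 13 1 0 Y = 12) ∧ Partner 13 (F g)) ∨
      (cnt 13 1 0 Y = 15 ∧ 1360894629560719968 ≤ Nat.card ↥(Subgroup.centralizer {F g})) ∨
      (cnt 13 1 0 Y = 36 ∧ 18743628421389393110651003031810837312 ≤ Nat.card ↥(Subgroup.centralizer {F g})) := by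
  have hx : (F g) ^ 13 = 1 := by rw [← map_pow, hg, map_one]
  have h1 := allAlc_spec th8 13 _ (by decide) check13 Y h.len h.alc
  have h2 : invB 13 3 R8 Y = true := invB_of (by norm_num) tab8 len8 h.frob
  rw [h2, cond_true, decide_eq_true_iff] at h1
  unfold L13 at h1
  simp only [List.mem_cons, List.not_mem_nil, or_false] at h1
  rcases h1 with rfl | rfl | rfl | rfl | rfl | rfl | rfl
  · exfalso
    apply hne
    have h3 := (h.ord 1).2 fun a ha => by
      rw [ms_tab tab8] at ha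
      have h4 : ∀ r ∈ R8, dotF (l := 8) r (vecL 13 [0, 0, 0, 0, 0, 0, 0, 0]) = 0 := by decide +kernel
      rw [Multiset.mem_add] at ha
      rcases ha with ha | ha
      · rw [Multiset.mem_coe, List.mem_map] at ha
        obtain ⟨r, hr, rfl⟩ := ha
        rw [h4 r hr]
        simp
      · rw [Multiset.mem_coe, List.mem_map] at ha
        obtain ⟨r, hr, rfl⟩ := ha
        rw [h4 r hr]
        simp
    rwa [pow_one] at h3
  · exact Or.inr (Or.inr ⟨by decide +kernel, bndCEa ▸ cent_le (by norm_num) (by norm_num) chkCEa hx hT⟩)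
  · exact Or.inr (Or.inr ⟨by decide +kernel, bndCEb ▸ cent_le (by norm_num) (by norm_num) chkCEb hx hT⟩)
  · exact Or.inl ⟨by decide +kernel, partner_a hx hT⟩
  · exact Or.inl ⟨by decide +kernel, partner_b hx hT⟩
  · exact Or.inr (Or.inl ⟨by decide +kernel, bndCAa ▸ cent_le (by norm_num) (by norm_num) chkCAa hx hT⟩)
  · exact Or.inr (Or.inl ⟨by decide +kernel, bndCAb ▸ cent_le (by norm_num) (by norm_num) chkCAb hx hT⟩)

/-- the alcove vectors of the elements of order dividing 5 -/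
theorem check5' : allAlc th8 5 (fun Y => bif invB 5 3 R8 Y then decide (Y ∈ ([[0, 0, 0, 0, 0, 0, 0, 0],
    [0, 0, 0, 0, 1, 0, 0, 0], [0, 0, 1, 0, 0, 0, 0, 0], [0, 1, 0, 0, 0, 0, 0, 1], [1, 0, 0, 0, 0, 0, 0, 1]] :
    List (List ℕ))) else true) = true := by
  decide +kernel

/-- **Elements of order 5 of `E₈(3)`** with a fixed space of dimension 68: an involution commuting with `x` and fixing
all the fixed vectors of `x`. -/
theorem five {g : G} {Y : List ℕ} {ξ : ℂ} (hg : g ^ 5 = 1) (hc : cnt 5 1 0 Y = 30) (h : Spec V F g 5 Y ξ)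
    (hT : TorD e8T (F g) 5 (vecL 5 Y)) :
    ∃ x' : ↥(chevE8.group (ZMod 3)), x' ^ 2 = 1 ∧ x' ≠ 1 ∧ Commute (F g) x' ∧
      ∀ v : chevE8.Idx → ZMod 3, (mt (F g)).mulVec v = v → (mt x').mulVec v = v := by
  have hx : (F g) ^ 5 = 1 := by rw [← map_pow, hg, map_one]
  have h1 := allAlc_spec th8 5 _ (by decide) check5' Y h.len h.alc
  have h2 : invB 5 3 R8 Y = true := invB_of (by norm_num) tab8 len8 h.frob
  rw [h2, cond_true, decide_eq_true_iff] at h1
  simp only [List.mem_cons, List.not_mem_nil, or_false] at h1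
  rcases h1 with rfl | rfl | rfl | rfl | rfl
  · exact absurd hc (by decide +kernel)
  · exact absurd hc (by decide +kernel)
  · exact absurd hc (by decide +kernel)
  · exact absurd hc (by decide +kernel)
  · obtain ⟨x', h1, h2, h3, h4, -⟩ := centre (by norm_num) (by norm_num) (by norm_num) (by norm_num) chkCDc hx hT
    refine ⟨x', h1, fun h5 => ?_, h2, h3⟩
    have h6 := h4 1 (by rw [h5, one_pow]) 0
    simp at h6

end Cfsg.Agent.H540.E8C
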